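import Groth.Agent.S3554
import Groth.Prelude.Def_CohB1
import Mathlib.RingTheory.TensorProduct.MvPolynomial

/-!
# Projective space over a ring is the base change of projective space over the integers
-/

set_option autoImplicit false
set_option backward.isDefEq.respectTransparency false
universe u

open CategoryTheory CategoryTheory.Limits AlgebraicGeometry

noncomputable section

namespace Groth.Agent.ProjOverIso

attribute [local instance] MvPolynomial.algebraMvPolynomial

theorem exists_iso (n : ℕ) (R : Type u) [CommRing R] :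
    ∃ e : CohB1.ProjSpaceOver n (Spec (CommRingCat.of R)) ≅ CohB1.ProjSpace n R,
      e.hom ≫ CohB1.ProjSpace.toSpec n R = CohB1.ProjSpaceOver.toBase n (Spec (CommRingCat.of R)) := by
  letI : Algebra (ULift.{u} ℤ) R := ((Int.castRingHom R).comp ULift.ringEquiv.toRingHom).toAlgebra
  let φ : CohB1.polyGrading n (ULift.{u} ℤ) →+*ᵍ CohB1.polyGrading n R :=
    { toRingHom := MvPolynomial.map (algebraMap (ULift.{u} ℤ) R)
      map_mem := fun {i x} hx => MvPolynomial.IsHomogeneous.map hx _ }
  have hφ : HomogeneousIdeal.irrelevant (CohB1.polyGrading n R) ≤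
      (HomogeneousIdeal.irrelevant (CohB1.polyGrading n (ULift.{u} ℤ))).map φ := by
    intro x hx
    show x ∈ Ideal.map _ _
    have hx0 : x.coeff 0 = 0 := by
      have h := (HomogeneousIdeal.mem_irrelevant_iff _ x).1 hx
      rw [GradedRing.proj_apply, show (DirectSum.decompose (CohB1.polyGrading n R) x 0 : MvPolynomial (Fin (n + 1)) R) =
        MvPolynomial.homogeneousComponent 0 x from MvPolynomial.decomposition.decompose'_apply _ _,
        MvPolynomial.homogeneousComponent_zero] at h
      exact MvPolynomial.C_eq_zero.mp h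
    rw [x.as_sum]
    refine Ideal.sum_mem _ fun d hd => ?_
    obtain ⟨i, hi⟩ : ∃ i, d i ≠ 0 := by
      by_contra hne
      push Not at hne
      exact MvPolynomial.mem_support_iff.mp hd (by rw [show d = 0 from Finsupp.ext hne]; exact hx0)
    have : MvPolynomial.monomial d (x.coeff d) = MvPolynomial.monomial (d - Finsupp.single i 1) (x.coeff d) *
        MvPolynomial.map (algebraMap (ULift.{u} ℤ) R) (MvPolynomial.X i) := by
      rw [MvPolynomial.map_X, MvPolynomial.X, MvPolynomial.monomial_mul, mul_one]
      congr 2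
      refine (tsub_add_cancel_of_le ?_).symm
      exact Finsupp.single_le_iff.mpr (Nat.one_le_iff_ne_zero.mpr hi)
    rw [this]
    refine Ideal.mul_mem_left _ _ (Ideal.mem_map_of_mem φ ?_)
    exact HomogeneousIdeal.mem_irrelevant_of_mem _ one_pos (MvPolynomial.isHomogeneous_X _ i)
  have h := S3554.result (CohB1.polyGrading n (ULift.{u} ℤ)) (CohB1.polyGrading n R) φ (fun b => rfl) hφ
  have h2 : IsPullback (pullback.fst (CohB1.ProjSpace.toSpec n (ULift.{u} ℤ))
      (specULiftZIsTerminal.from (Spec (CommRingCat.of R)))) (CohB1.ProjSpaceOver.toBase n (Spec (CommRingCat.of R)))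
      (CohB1.ProjSpace.toSpec n (ULift.{u} ℤ)) (Spec.map (CommRingCat.ofHom (algebraMap (ULift.{u} ℤ) R))) := by
    rw [specULiftZIsTerminal.hom_ext (Spec.map (CommRingCat.ofHom (algebraMap (ULift.{u} ℤ) R)))
      (specULiftZIsTerminal.from (Spec (CommRingCat.of R)))]
    exact IsPullback.of_hasPullback _ _
  exact ⟨h2.isoIsPullback _ _ h, h2.isoIsPullback_hom_snd _ _ h⟩

end Groth.Agent.ProjOverIso
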